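import Groth.Agent.Lib.Helper22.ColimCohU.Sections
import Groth.Agent.Lib.Helper22.DimShiftIso
import Groth.Agent.S0665

/-!
# Cartan's criterion relative to a class of objects and finite coverings (universe-general)
-/

set_option autoImplicit false
set_option linter.unusedSectionVars false

universe w v u' u

open CategoryTheory CategoryTheory.Limits Opposite Abelian

namespace Groth.Agent.Lib.Helper22.ColimCohU

open Groth.Agent.Lib.Helper22.CechU Groth.Agent.Lib.Helper22.CechU.Site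
open Groth.Agent.Lib.Helper22.DimShift

section Abstract

universe a b c

variable {𝒜 : Type a} [Category.{b} 𝒜] [Abelian 𝒜] [EnoughInjectives 𝒜] [HasExt.{c} 𝒜]

/-- Abstract acyclicity criterion: a class of objects stable under `F ↦ I(F)/F` on which `Hom(A, -)`
sends `I(F) → I(F)/F` to a surjection consists of `Ext^•(A, -)`-acyclic objects. -/
theorem ext_succ_eq_zero_of_class (A : 𝒜) (𝒞 : 𝒜 → Prop)
    (hsurj : ∀ F, 𝒞 F → ∀ x₃ : Ext A (injSC F).X₃ 0,
      ∃ x₂ : Ext A (injSC F).X₂ 0, x₂.comp (Ext.mk₀ (injSC F).g) (add_zero 0) = x₃)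
    (hquot : ∀ F, 𝒞 F → 𝒞 (injSC F).X₃) (n : ℕ) :
    ∀ F, 𝒞 F → ∀ x : Ext A F (n + 1), x = 0 := by
  induction n with
  | zero =>
    intro F hF x
    have hS := injSC_shortExact F
    have h0 : x.comp (Ext.mk₀ (injSC F).f) (add_zero 1) = 0 := Ext.eq_zero_of_injective _
    obtain ⟨x₃, hx₃⟩ := Ext.covariant_sequence_exact₁ _ hS x h0 (zero_add 1)
    obtain ⟨x₂, hx₂⟩ := hsurj F hF x₃
    rw [← hx₃, ← hx₂, Ext.comp_assoc_of_second_deg_zero, hS.comp_extClass, Ext.comp_zero]
  | succ n ih =>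
    intro F hF x
    have hS := injSC_shortExact F
    have h0 : x.comp (Ext.mk₀ (injSC F).f) (add_zero (n + 1 + 1)) = 0 :=
      Ext.eq_zero_of_injective _
    obtain ⟨x₃, hx₃⟩ := Ext.covariant_sequence_exact₁ _ hS x h0 (n₀ := n + 1) rfl
    rw [← hx₃, ih (injSC F).X₃ (hquot F hF) x₃, Ext.zero_comp]

end Abstract

variable {C : Type u'} [Category.{v} C] {J : GrothendieckTopology C}
  [∀ U : C, HasFiniteProducts (Over U)] [LocallySmall.{u} C]
  [HasSheafify J AddCommGrpCat.{u}]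
  [J.WEqualsLocallyBijective AddCommGrpCat.{u}]
  [J.HasSheafCompose (forget AddCommGrpCat.{u})]

/-- Injective sheaves are Čech-acyclic for every family. -/
lemma acyc_of_injective_sheaf (I : Sheaf J AddCommGrpCat.{u}) [Injective I] {U : C}
    {ι : Type u} (Y : ι → Over U) (n : ℕ) : Acyc Y (rP I.obj) n := by
  have hI : Injective I.obj :=
    Injective.injective_of_adjoint (sheafificationAdjunction J AddCommGrpCat.{u}) I
  exact (isZero_homology_succ_iff_acyc Y _ n).1 (Groth.Agent.S0665.result Y I.obj n)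

section Basis

variable {Cov : ∀ (U : C) (ι : Type u), (ι → Over U) → Prop} {B : Set C}
  (hsh : ∀ Q : Sheaf J AddCommGrpCat.{u}, Presieve.IsSheaf J (Q.obj ⋙ forget AddCommGrpCat.{u}))
  (h1 : ∀ (U : C) (ι : Type u) (Y : ι → Over U), Cov U ι Y → U ∈ B ∧
      Sieve.ofArrows (fun i => (Y i).left) (fun i => (Y i).hom) ∈ J U ∧
      ∀ (p : ℕ) (a : Fin (p + 1) → ι), (Uσ Y a).left ∈ B)
  (h2 : ∀ U ∈ B, ∀ T ∈ J U, ∃ (ι : Type u) (Y : ι → Over U), Cov U ι Y ∧
      ∀ i, T.arrows (Y i).hom)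

include hsh h1 h2 in
lemma surjective_of_covAcyclic (S : ShortComplex (Sheaf J AddCommGrpCat.{u}))
    (hS : S.ShortExact) (hF : CovAcyclic Cov S.X₁) (V : C) (hV : V ∈ B) :
    Function.Surjective (S.g.hom.app (op V)) := by
  intro t
  have hepi : Epi S.g := hS.epi_g
  have hls : Presheaf.IsLocallySurjective J S.g.hom :=
    (Sheaf.isLocallySurjective_iff_epi' (J := J) (A := AddCommGrpCat.{u}) S.g).2 hepi
  have hT : Presheaf.imageSieve S.g.hom t ∈ J V := hls.imageSieve_mem t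
  obtain ⟨ι, Y, hCov, hYT⟩ := h2 V hV _ hT
  exact exists_lift_of_acyc_zero Y S hS hsh (h1 V ι Y hCov).2.1 (hF V ι Y hCov 0) t hYT

variable [EnoughInjectives (Sheaf J AddCommGrpCat.{u})]

include hsh h1 h2 in
lemma CovAcyclic.secExact {F : Sheaf J AddCommGrpCat.{u}} (hF : CovAcyclic Cov F) {U : C}
    {ι : Type u} (Y : ι → Over U) (hY : Cov U ι Y) :
    SecExact Y (rMap (U := U) (injSC F).f.hom) (rMap (injSC F).g.hom) :=
  secExact_of_shortExact Y _ (injSC_shortExact F) fun n σ =>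
    surjective_of_covAcyclic hsh h1 h2 (injSC F) (injSC_shortExact F) hF _
      ((h1 U ι Y hY).2.2 n σ)

include hsh h1 h2 in
lemma CovAcyclic.quot {F : Sheaf J AddCommGrpCat.{u}} (hF : CovAcyclic Cov F) :
    CovAcyclic Cov (injSC F).X₃ := by
  intro U ι Y hY p
  exact (hF.secExact hsh h1 h2 Y hY).acyc_quot p (acyc_of_injective_sheaf (injSC F).X₂ Y p)
    (hF U ι Y hY (p + 1))

end Basis

end Groth.Agent.Lib.Helper22.ColimCohU
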