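import Groth.Agent.Lib.Helper22.ColimCohU.Coprod
import Groth.Agent.Lib.Helper22.EtStalk.ClosedCoh
import Groth.Agent.Lib.Helper22.EtStalk.SepField
import Groth.Agent.S0073

/-!
# Cohomology of the direct sum of the skyscraper sheaves at the closed points
-/

set_option autoImplicit false
open CategoryTheory CategoryTheory.Limits AlgebraicGeometry Opposite
universe u

namespace Groth.Agent.Lib.Helper22.ColimCohU.ClosedPoints

open Groth.Agent.Lib.Helper22.ColimCohU.Etale Groth.Agent.Lib.Helper22.EtStalk.ClosedCoh
open Groth.Agent.Lib.Helper22.EtStalk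

/-- Cohomology of the spectrum of a separably closed field vanishes in positive degrees. -/
lemma subsingleton_H_sepClosed (K : Type u) [Field K] [IsSepClosed K]
    (G : EtCoh.Ab (Spec (CommRingCat.of K))) (q : ℕ) (hq : 0 < q) :
    Subsingleton (EtCoh.H (Spec (CommRingCat.of K)) G q) :=
  Groth.Agent.S0073.result K G q hq

variable {k : Type u} [Field k] [IsAlgClosed k] {X : Scheme.{u}} (f : X ⟶ Spec (CommRingCat.of k))
  [LocallyOfFiniteType f]

include f in
lemma isSepClosed_residueField (x : X) (hx : IsClosed ({x} : Set X)) :
    IsSepClosed (X.residueField x) := by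
  let e : (X.residueField x) ≃+* k := (residueFieldIsoBase f x hx).commRingCatIsoToRingEquiv
  exact SepField.isSepClosed_of_ringEquiv k (X.residueField x) e.symm

include f in
lemma subsingleton_H_closedPoint (x : X) (hx : IsClosed ({x} : Set X))
    (G : EtCoh.Ab (Spec (X.residueField x))) (q : ℕ) (hq : 0 < q) :
    Subsingleton (EtCoh.H X ((EtCoh.push (X.fromSpecResidueField x)).obj G) q) := by
  have hci : IsClosedImmersion (X.fromSpecResidueField x) :=
    isClosed_singleton_iff_isClosedImmersion.1 hx
  have hsc := isSepClosed_residueField f x hx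
  exact subsingleton_H_push (X.fromSpecResidueField x) G q
    (subsingleton_H_sepClosed (X.residueField x) G q hq)

include f in
theorem main [CompactSpace X] [QuasiSeparatedSpace X]
    (c : Cofan fun x : {x : X // IsClosed ({x} : Set X)} =>
      (EtCoh.push (X.fromSpecResidueField x.1)).obj (EtCoh.const (Spec (X.residueField x.1)) ℤ))
    (hc : IsColimit c) (q : ℕ) (hq : 0 < q) :
    Subsingleton (EtCoh.H X c.pt q) :=
  subsingleton_H_cofan _ c hc q (fun x => subsingleton_H_closedPoint f x.1 x.2 _ q hq)

end Groth.Agent.Lib.Helper22.ColimCohU.ClosedPoints
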