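import Groth.Agent.Lib.Helper22.ColimCohU.Etale

/-!
# Étale cohomology of a qcqs scheme and arbitrary coproducts
-/

set_option autoImplicit false
set_option linter.unusedSectionVars false

universe w u

open CategoryTheory CategoryTheory.Limits Opposite AlgebraicGeometry

namespace Groth.Agent.Lib.Helper22.ColimCohU.Etale

open CoproductsFromFiniteFiltered

variable {X : Scheme.{u}}

instance additive_HF (q : ℕ) : (EtCoh.HF X q).Additive := by
  unfold EtCoh.HF
  infer_instance

/-- Cohomology of a finite coproduct of acyclic-in-degree-`q` sheaves vanishes. -/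
lemma subsingleton_H_finite_coprod {κ : Type w} [Finite κ] (A : κ → EtCoh.Ab X) (q : ℕ)
    (h : ∀ k, Subsingleton (EtCoh.H X (A k) q)) : Subsingleton (EtCoh.H X (∐ A) q) := by
  have hz : ∀ k, IsZero ((EtCoh.HF X q).obj (A k)) := fun k =>
    AddCommGrpCat.isZero_iff_subsingleton.2 (h k)
  have : PreservesColimitsOfShape (Discrete κ) (EtCoh.HF X q) := inferInstance
  let e : (EtCoh.HF X q).obj (∐ A) ≅ ∐ fun k => (EtCoh.HF X q).obj (A k) :=
    (PreservesCoproduct.iso (EtCoh.HF X q) A)
  have hz' : IsZero (∐ fun k => (EtCoh.HF X q).obj (A k)) := by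
    rw [IsZero.iff_id_eq_zero]
    apply Sigma.hom_ext
    intro k
    exact (hz k).eq_of_src _ _
  exact AddCommGrpCat.isZero_iff_subsingleton.1 (hz'.of_iso e)

/-- **Cohomology of a coproduct of sheaves acyclic in degree `q` on a qcqs scheme vanishes.** -/
theorem subsingleton_H_cofan [CompactSpace X] [QuasiSeparatedSpace X] {ι : Type w}
    [HasColimitsOfShape (Finset (Discrete ι)) AddCommGrpCat.{u + 1}]
    [PreservesColimitsOfShape (Finset (Discrete ι)) (forget AddCommGrpCat.{u + 1})]
    [HasColimitsOfShape (Finset (Discrete ι)) (EtCoh.Ab X)]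
    [HasExactColimitsOfShape (Finset (Discrete ι)) (EtCoh.Ab X)]
    (G : ι → EtCoh.Ab X) [HasCoproduct G] (c : Cofan G) (hc : IsColimit c) (q : ℕ)
    (h : ∀ j, Subsingleton (EtCoh.H X (G j) q)) : Subsingleton (EtCoh.H X c.pt q) := by
  -- reduce to the chosen coproduct
  let e : c.pt ≅ ∐ G := hc.coconePointUniqueUpToIso (coproductIsCoproduct G)
  suffices hs : Subsingleton (EtCoh.H X (∐ G) q) by
    refine subsingleton_of_forall_eq 0 fun x => ?_
    have h1 : Sheaf.H.map e.hom q x = 0 := Subsingleton.elim _ _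
    have h2 : Sheaf.H.map e.inv q (Sheaf.H.map e.hom q x) = x := by
      rw [← Sheaf.H.map_comp_apply, e.hom_inv_id, Sheaf.H.map_id_apply]
    rw [← h2, h1, map_zero]
  refine subsingleton_of_forall_eq 0 fun x => ?_
  obtain ⟨S, y, hy⟩ := H_rep (finiteSubcoproductsCocone G) (isColimitFiniteSubproductsCocone G) q x
  have hS : Subsingleton (EtCoh.H X ((liftToFinsetObj (Discrete.functor G)).obj S) q) :=
    subsingleton_H_finite_coprod (fun s : S => G s.1.as) q (fun s => h s.1.as)
  have hy0 : y = 0 := Subsingleton.elim _ _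
  rw [← hy, hy0, map_zero]
  rfl

end Groth.Agent.Lib.Helper22.ColimCohU.Etale
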