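import Groth.Agent.Lib.Helper22.ColimCohU.ExtInd
import Groth.Agent.Lib.Helper22.EtLoc.Acyclic

set_option autoImplicit false
set_option linter.unusedSectionVars false

universe w₂ w₁ u

open CategoryTheory CategoryTheory.Limits Opposite AlgebraicGeometry Abelian

namespace Groth.Agent.Lib.Helper22.ColimCohU.Etale

open Groth.Agent.Lib.Helper22.CechU Groth.Agent.Lib.Helper22.CechU.Site
open Groth.Agent.Lib.Helper22.CechU.Etale Groth.Agent.Lib.Helper22.EtLoc

variable {X : Scheme.{u}}

/-- Étale `X`-schemes whose underlying scheme is quasi-compact and quasi-separated. -/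
def Bq (X : Scheme.{u}) : Set X.Etale :=
  {U | CompactSpace U.left ∧ QuasiSeparatedSpace U.left}

lemma Bq_of_iso {U V : X.Etale} (e : U ≅ V) (hU : U ∈ Bq X) : V ∈ Bq X := by
  obtain ⟨h1, h2⟩ := hU
  let i : V.left ≅ U.left := (US X).mapIso e.symm
  exact ⟨QuasiCompact.compactSpace_of_compactSpace i.hom,
    quasiSeparatedSpace_of_quasiSeparated i.hom⟩

lemma Bq_pullback {A B U : X.Etale} (f : A ⟶ U) (g : B ⟶ U) (hA : A ∈ Bq X) (hB : B ∈ Bq X)
    (hU : U ∈ Bq X) : pullback f g ∈ Bq X := by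
  obtain ⟨a1, a2⟩ := hA
  obtain ⟨b1, b2⟩ := hB
  obtain ⟨u1, u2⟩ := hU
  let i : (pullback f g).left ≅ pullback f.left g.left := PreservesPullback.iso (US X) f g
  have h1 : CompactSpace ↥(pullback f.left g.left) := inferInstance
  have h2 : QuasiSeparatedSpace ↥(pullback f.left g.left) :=
    quasiSeparatedSpace_of_quasiSeparated (pullback.fst f.left g.left)
  exact ⟨QuasiCompact.compactSpace_of_compactSpace i.hom,
    quasiSeparatedSpace_of_quasiSeparated i.hom⟩

/-- The property of objects over `U` of having qcqs underlying scheme. -/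
def Pq (U : X.Etale) : ObjectProperty (Over U) := fun Z => Z.left ∈ Bq X

instance (U : X.Etale) : (Pq U).IsClosedUnderIsomorphisms where
  of_iso e h := Bq_of_iso ((Over.forget U).mapIso e) h

lemma Pq_terminal {U : X.Etale} (hU : U ∈ Bq X) :
    (Pq U).IsClosedUnderLimitsOfShape (Discrete.{0} PEmpty) where
  limitsOfShape_le := by
    rintro Z ⟨pres⟩
    have hZ : IsTerminal Z :=
      (isLimitEmptyConeEquiv _ (Cone.mk Z pres.π) (asEmptyCone Z) (Iso.refl _)) pres.isLimit
    have e : Over.mk (𝟙 U) ≅ Z := (IsTerminal.uniqueUpToIso hZ Over.mkIdTerminal).symm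
    exact (Pq U).prop_of_iso e hU

lemma Pq_binary {U : X.Etale} (hU : U ∈ Bq X) :
    (Pq U).IsClosedUnderLimitsOfShape (Discrete WalkingPair) where
  limitsOfShape_le := by
    rintro Z ⟨pres⟩
    let A := pres.diag.obj ⟨WalkingPair.left⟩
    let B := pres.diag.obj ⟨WalkingPair.right⟩
    have hA : A.left ∈ Bq X := pres.prop_diag_obj _
    have hB : B.left ∈ Bq X := pres.prop_diag_obj _
    let e : Z ≅ A ⨯ B :=
      IsLimit.conePointsIsoOfNatIso pres.isLimit (limit.isLimit (pair A B))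
        (diagramIsoPair pres.diag)
    have h : (A ⨯ B).left ∈ Bq X :=
      Bq_of_iso (Over.prodLeftIsoPullback A B).symm (Bq_pullback A.hom B.hom hA hB hU)
    exact (Pq U).prop_of_iso e.symm h

lemma Pq_finiteProducts {U : X.Etale} (hU : U ∈ Bq X) :
    (Pq U).IsClosedUnderFiniteProducts := by
  have := Pq_terminal hU
  have := Pq_binary hU
  exact ObjectProperty.IsClosedUnderFiniteProducts.mk'

lemma Bq_prod {U : X.Etale} (hU : U ∈ Bq X) {ι : Type (u + 1)} (Y : ι → Over U)
    (hY : ∀ i, (Y i).left ∈ Bq X) {p : ℕ} (a : Fin (p + 1) → ι) : (Uσ Y a).left ∈ Bq X := by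
  have := Pq_finiteProducts hU
  exact (Pq U).prop_product (f := Y ∘ a) (fun j => hY (a j))

/-- Finite jointly surjective families of qcqs étale schemes over a qcqs étale scheme. -/
def Covq (X : Scheme.{u}) (U : X.Etale) (ι : Type (u + 1)) (Y : ι → Over U) : Prop :=
  Finite ι ∧ U ∈ Bq X ∧ (∀ i, (Y i).left ∈ Bq X) ∧
    ∀ x : ↥(U.left), ∃ (i : ι) (y : ↥((Y i).left.left)), (Y i).hom.left.base y = x

/-- Refinement of a covering sieve of a qcqs étale scheme by a finite family of affines. -/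
lemma exists_refinement (U : X.Etale) (hU : U ∈ Bq X) (T : Sieve U)
    (hT : T ∈ X.smallEtaleTopology U) :
    ∃ (ι : Type (u + 1)) (Y : ι → Over U), Covq X U ι Y ∧ ∀ i, T.arrows (Y i).hom := by
  have key : ∀ x : ↥(U.left), ∃ (Z : Over U), T.arrows Z.hom ∧ IsAffine Z.left.left ∧
      x ∈ Set.range Z.hom.left.base := by
    intro x
    obtain ⟨V, f, y, hf, hy⟩ := (mem_smallEtaleTopology_iff U T).1 hT x
    have hE : Etale (V.hom : V.left ⟶ X) := V.prop
    obtain ⟨W, hW, hyW, -⟩ := exists_isAffineOpen_mem_and_subset (x := y) (U := ⊤) trivial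
    let V' : X.Etale := Scheme.Etale.mk (W.ι ≫ V.hom)
    let g : V' ⟶ V := MorphismProperty.Over.homMk W.ι rfl trivial
    refine ⟨Over.mk (g ≫ f), T.downward_closed hf g, hW, ⟨⟨y, hyW⟩, ?_⟩⟩
    exact hy
  choose Z hZT hZaff hZx using key
  obtain ⟨hc, hq⟩ := hU
  have hopen : ∀ x, IsOpen (Set.range (Z x).hom.left.base) := fun x =>
    ((Z x).hom.left.isOpenMap).isOpen_range
  have hcov : (Set.univ : Set ↥(U.left)) ⊆ ⋃ x, Set.range (Z x).hom.left.base := by
    intro x _
    exact Set.mem_iUnion.2 ⟨x, hZx x⟩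
  obtain ⟨t, ht⟩ := isCompact_univ.elim_finite_subcover _ hopen hcov
  refine ⟨ULift.{u + 1} t, fun i => Z i.down.1, ⟨inferInstance, ⟨hc, hq⟩, fun i => ?_, fun x => ?_⟩,
    fun i => hZT _⟩
  · have := hZaff i.down.1
    exact ⟨inferInstance, inferInstance⟩
  · have := ht (Set.mem_univ x)
    simp only [Set.mem_iUnion, Set.mem_range] at this
    obtain ⟨i, hi, y, hy⟩ := this
    exact ⟨⟨⟨i, hi⟩⟩, y, hy⟩

/-! ### The three conditions of Stacks 0739 -/

lemma h1q (U : X.Etale) (ι : Type (u + 1)) (Y : ι → Over U) (h : Covq X U ι Y) :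
    U ∈ Bq X ∧ Sieve.ofArrows (fun i => (Y i).left) (fun i => (Y i).hom) ∈
      X.smallEtaleTopology U ∧
      ∀ (p : ℕ) (a : Fin (p + 1) → ι), (Uσ Y a).left ∈ Bq X :=
  ⟨h.2.1, ofArrows_mem Y h.2.2.2, fun _ a => Bq_prod h.2.1 Y h.2.2.1 a⟩

lemma h2q (U : X.Etale) (hU : U ∈ Bq X) (T : Sieve U) (hT : T ∈ X.smallEtaleTopology U) :
    ∃ (ι : Type (u + 1)) (Y : ι → Over U), Covq X U ι Y ∧ ∀ i, T.arrows (Y i).hom :=
  exists_refinement U hU T hT

lemma hfinq (U : X.Etale) (ι : Type (u + 1)) (Y : ι → Over U) (h : Covq X U ι Y) : Finite ι :=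
  h.1

lemma top_mem_Bq (X : Scheme.{u}) [CompactSpace X] [QuasiSeparatedSpace X] :
    EtCoh.top X ∈ Bq X :=
  ⟨‹CompactSpace X›, ‹QuasiSeparatedSpace X›⟩

/-- The constant sheaf `ℤ`, which corepresents global sections. -/
noncomputable abbrev ZX (X : Scheme.{u}) : EtCoh.Ab X :=
  (constantSheaf X.smallEtaleTopology AddCommGrpCat.{u + 1}).obj
    (AddCommGrpCat.of (ULift.{u + 1} ℤ))

section Main

variable (X : Scheme.{u}) [CompactSpace X] [QuasiSeparatedSpace X]
  (I : Type w₁) [Category.{w₂} I] [IsFiltered I]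
  [HasColimitsOfShape I AddCommGrpCat.{u + 1}]
  [PreservesColimitsOfShape I (forget AddCommGrpCat.{u + 1})]
  [HasColimitsOfShape I (EtCoh.Ab X)]
  [HasExactColimitsOfShape I (EtCoh.Ab X)]

/-- Étale cohomology of a qcqs scheme commutes with filtered colimits, elementwise form. -/
theorem comm_etale (n : ℕ) : Comm I (ZX X) n := by
  obtain ⟨Jf, jf, hJ⟩ :=
    Groth.Agent.Lib.Helper18.FunctorialInjective.exists_functorial_injective_embedding.{u + 1}
      (EtCoh.Ab X)
  have hinj : ∀ G, Injective (Jf.obj G) := fun G => (hJ G).1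
  have hmono : ∀ G, Mono (jf.app G) := fun G => (hJ G).2
  exact comm (J := X.smallEtaleTopology) Jf jf (B := Bq X) (Cov := Covq X)
    (fun Q => isSheaf_forget Q) h1q h2q hfinq (ZX X) (EtCoh.top X) (top_mem_Bq X)
    (fun G => Sheaf.H.equiv₀ G (EtCore.topIsTerminal X))
    (fun {G G'} φ x => (Sheaf.H.equiv₀_naturality (hT := EtCore.topIsTerminal X) φ x).symm) n

/-- Étale cohomology of a qcqs scheme commutes with filtered colimits. -/
theorem preservesColimitsOfShape_HF (n : ℕ) : PreservesColimitsOfShape I (EtCoh.HF X n) := by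
  have hP := comm_etale X I n
  constructor
  intro F
  have : ReflectsColimit (F ⋙ EtCoh.HF X n) (forget AddCommGrpCat.{u + 1}) :=
    reflectsColimit_of_reflectsIsomorphisms _ _
  apply preservesColimit_of_preserves_colimit_cocone (colimit.isColimit F)
  apply isColimitOfReflects (forget AddCommGrpCat.{u + 1})
  apply Types.FilteredColimit.isColimitOf'
  · intro x
    obtain ⟨i, y, hy⟩ := hP.rep F x
    exact ⟨i, y, hy.symm⟩
  · intro i x y hxy
    let x' : Abelian.Ext (ZX X) (F.obj i) n := x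
    let y' : Abelian.Ext (ZX X) (F.obj i) n := y
    have h0 : push (ZX X) n (colimit.ι F i) (x' - y') = 0 := by
      rw [map_sub, sub_eq_zero]
      exact hxy
    obtain ⟨j, g, hg⟩ := hP.zero F i (x' - y') h0
    refine ⟨j, g, ?_⟩
    rw [map_sub, sub_eq_zero] at hg
    exact hg

variable {X I}

/-- Every cohomology class of a filtered colimit comes from a finite stage. -/
lemma H_rep {F : I ⥤ EtCoh.Ab X} (c : Cocone F) (hc : IsColimit c) (n : ℕ)
    (x : EtCoh.H X c.pt n) :
    ∃ (i : I) (y : EtCoh.H X (F.obj i) n), Sheaf.H.map (c.ι.app i) n y = x := by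
  have := preservesColimitsOfShape_HF X I n
  have hcol : IsColimit ((EtCoh.HF X n).mapCocone c) := isColimitOfPreserves _ hc
  obtain ⟨i, y, hy⟩ := Concrete.isColimit_exists_rep _ hcol x
  exact ⟨i, y, hy⟩

/-- A cohomology class at a finite stage dying in the colimit dies at a later stage. -/
lemma H_zero {F : I ⥤ EtCoh.Ab X} (c : Cocone F) (hc : IsColimit c) (n : ℕ) (i : I)
    (y : EtCoh.H X (F.obj i) n) (hy : Sheaf.H.map (c.ι.app i) n y = 0) :
    ∃ (j : I) (g : i ⟶ j), Sheaf.H.map (F.map g) n y = 0 := by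
  have := preservesColimitsOfShape_HF X I n
  have hcol : IsColimit ((EtCoh.HF X n).mapCocone c) := isColimitOfPreserves _ hc
  have h0 : ((EtCoh.HF X n).mapCocone c).ι.app i y = ((EtCoh.HF X n).mapCocone c).ι.app i 0 := by
    rw [map_zero]
    exact hy
  obtain ⟨k, f, g, hfg⟩ := Concrete.isColimit_exists_of_rep_eq _ hcol y 0 h0
  refine ⟨k, f, ?_⟩
  have : Sheaf.H.map (F.map f) n y = Sheaf.H.map (F.map g) n 0 := hfg
  rw [this, map_zero]

end Main

section Small

variable (X : Scheme.{u})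

instance preservesColimitsOfShape_forget_small (J : Type u) [SmallCategory J] [IsFiltered J] :
    PreservesColimitsOfShape J (forget AddCommGrpCat.{u + 1}) := by
  have : PreservesFilteredColimitsOfSize.{u, u} (forget AddCommGrpCat.{u + 1}) :=
    preservesFilteredColimitsOfSize_shrink.{u, u + 1, u, u + 1} _
  infer_instance

instance hasExactColimitsOfShape_small (J : Type u) [SmallCategory J] [IsFiltered J] :
    HasExactColimitsOfShape J (EtCoh.Ab X) := by
  have h := AB5OfSize_shrink.{u, u, u + 1, u + 1} (EtCoh.Ab X)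
  exact h.ofShape J

end Small

end Groth.Agent.Lib.Helper22.ColimCohU.Etale
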