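import Groth.Agent.Lib.Helper22.ColimCohU.Cartan
import Groth.Agent.Lib.Helper18.FunctorialInjective
import Groth.Agent.Lib.Helper25.DeltaFEff

/-!
# Cohomology commutes with filtered colimits (Stacks 0739), universe-general version

Let `B`, `Cov` be a class of objects of a site and a class of finite covering families as in
Stacks 0739, and let `Z` be an abelian sheaf corepresenting sections over some `U₀ ∈ B`. Then the
functors `Ext^p(Z, -)` commute with filtered colimits of abelian sheaves. The proof is by dimension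
shifting along a functorial embedding into injectives, the colimit of injectives being acyclic by
Cartan's criterion.
-/

set_option autoImplicit false
set_option linter.unusedSectionVars false

universe w₂ w₁ w v u' u

open CategoryTheory CategoryTheory.Limits Opposite Abelian

namespace Groth.Agent.Lib.Helper22.ColimCohU

open Groth.Agent.Lib.Helper22.CechU Groth.Agent.Lib.Helper22.CechU.Site
open Groth.Agent.Lib.Helper22.DimShift
open Groth.Agent.Lib.Helper25.DeltaFEff

variable {C : Type u'} [Category.{v} C] {J : GrothendieckTopology C}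
  [HasSheafify J AddCommGrpCat.{u}]
  [HasExt.{w} (Sheaf J AddCommGrpCat.{u})]

section ExtOps

variable (Z : Sheaf J AddCommGrpCat.{u}) (n : ℕ)

/-- Push-forward on `Ext(Z, -)`. -/
noncomputable def push {G G' : Sheaf J AddCommGrpCat.{u}} (φ : G ⟶ G') :
    Ext Z G n →+ Ext Z G' n :=
  (Ext.mk₀ φ).postcomp Z (add_zero n)

lemma push_apply {G G' : Sheaf J AddCommGrpCat.{u}} (φ : G ⟶ G')
    (x : Ext Z G n) : push Z n φ x = x.comp (Ext.mk₀ φ) (add_zero n) := rfl

lemma push_comp {G G' G'' : Sheaf J AddCommGrpCat.{u}} (φ : G ⟶ G') (ψ : G' ⟶ G'')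
    (x : Ext Z G n) : push Z n (φ ≫ ψ) x = push Z n ψ (push Z n φ x) := by
  rw [push_apply, push_apply, push_apply, ← Ext.mk₀_comp_mk₀,
    Ext.comp_assoc x (Ext.mk₀ φ) (Ext.mk₀ ψ) (add_zero n) (add_zero 0) (by omega)]

/-- The connecting map on `Ext(Z, -)`. -/
noncomputable def dl {S : ShortComplex (Sheaf J AddCommGrpCat.{u})} (hS : S.ShortExact) :
    Ext Z S.X₃ n →+ Ext Z S.X₁ (n + 1) :=
  hS.extClass.postcomp Z rfl

lemma dl_apply {S : ShortComplex (Sheaf J AddCommGrpCat.{u})} (hS : S.ShortExact)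
    (x : Ext Z S.X₃ n) : dl Z n hS x = x.comp hS.extClass rfl := rfl

lemma dl_natural {S S' : ShortComplex (Sheaf J AddCommGrpCat.{u})} (hS : S.ShortExact)
    (hS' : S'.ShortExact) (φ : S ⟶ S') (x : Ext Z S.X₃ n) :
    push Z (n + 1) φ.τ₁ (dl Z n hS x) = dl Z n hS' (push Z n φ.τ₃ x) := by
  rw [push_apply, dl_apply, dl_apply, push_apply,
    Ext.comp_assoc x hS.extClass (Ext.mk₀ φ.τ₁) rfl (add_zero 1) (by omega),
    ShortComplex.ShortExact.extClass_naturality hS hS' φ,
    Ext.comp_assoc x (Ext.mk₀ φ.τ₃) hS'.extClass (add_zero n) (zero_add 1) (by omega)]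

lemma dl_push_g {S : ShortComplex (Sheaf J AddCommGrpCat.{u})} (hS : S.ShortExact)
    (x : Ext Z S.X₂ n) : dl Z n hS (push Z n S.g x) = 0 := by
  rw [push_apply, dl_apply,
    Ext.comp_assoc x (Ext.mk₀ S.g) hS.extClass (add_zero n) (zero_add 1) (by omega),
    hS.comp_extClass, Ext.comp_zero]

lemma exists_of_push_f_eq_zero {S : ShortComplex (Sheaf J AddCommGrpCat.{u})} (hS : S.ShortExact)
    (x : Ext Z S.X₁ (n + 1)) (hx : push Z (n + 1) S.f x = 0) :
    ∃ x₃, dl Z n hS x₃ = x :=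
  Ext.covariant_sequence_exact₁ Z hS x hx rfl

lemma exists_of_dl_eq_zero {S : ShortComplex (Sheaf J AddCommGrpCat.{u})} (hS : S.ShortExact)
    (x : Ext Z S.X₃ n) (hx : dl Z n hS x = 0) :
    ∃ x₂, push Z n S.g x₂ = x :=
  Ext.covariant_sequence_exact₃ Z hS x rfl hx

end ExtOps

/-! ### The functorial embedding into injectives -/

section Emb

variable {I : Type w₁} [Category.{w₂} I]
  (Jf : Sheaf J AddCommGrpCat.{u} ⥤ Sheaf J AddCommGrpCat.{u})
  (jf : 𝟭 (Sheaf J AddCommGrpCat.{u}) ⟶ Jf)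
  [hinj : ∀ X, Injective (Jf.obj X)] [hmono : ∀ X, Mono (jf.app X)]

variable (F : I ⥤ Sheaf J AddCommGrpCat.{u})

/-- The embedding of a diagram into a diagram of injectives. -/
def α : F ⟶ F ⋙ Jf where
  app i := jf.app (F.obj i)
  naturality _ _ g := jf.naturality (F.map g)

instance (i : I) : Mono ((α Jf jf F).app i) :=
  inferInstanceAs (Mono (jf.app (F.obj i)))

instance : Mono (α Jf jf F) := NatTrans.mono_of_mono_app _

/-- The quotient diagram. -/
noncomputable abbrev Qd : I ⥤ Sheaf J AddCommGrpCat.{u} := cokernel (α Jf jf F)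

/-- The projection to the quotient diagram. -/
noncomputable abbrev πd : F ⋙ Jf ⟶ Qd Jf jf F := cokernel.π (α Jf jf F)

/-- The short exact sequence of diagrams `0 ⟶ F ⟶ F' ⟶ Q ⟶ 0`. -/
noncomputable abbrev SI : ShortComplex (I ⥤ Sheaf J AddCommGrpCat.{u}) :=
  ShortComplex.mk (α Jf jf F) (πd Jf jf F) (cokernel.condition (α Jf jf F))

lemma SI_shortExact : (SI Jf jf F).ShortExact := sesOf_shortExact (α Jf jf F)

lemma α_πd_app (i : I) : (α Jf jf F).app i ≫ (πd Jf jf F).app i = 0 := by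
  rw [← NatTrans.comp_app, cokernel.condition]
  rfl

/-- The stage-`i` short exact sequence. -/
noncomputable abbrev Sst (i : I) : ShortComplex (Sheaf J AddCommGrpCat.{u}) :=
  ShortComplex.mk ((α Jf jf F).app i) ((πd Jf jf F).app i) (α_πd_app Jf jf F i)

lemma Sst_shortExact (i : I) : (Sst Jf jf F i).ShortExact :=
  (SI_shortExact Jf jf F).map_of_exact ((evaluation I (Sheaf J AddCommGrpCat.{u})).obj i)

instance (i : I) : Injective (Sst Jf jf F i).X₂ :=
  inferInstanceAs (Injective (Jf.obj (F.obj i)))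

/-- Transition maps between the stages. -/
noncomputable def Str {i j : I} (g : i ⟶ j) : Sst Jf jf F i ⟶ Sst Jf jf F j where
  τ₁ := F.map g
  τ₂ := (F ⋙ Jf).map g
  τ₃ := (Qd Jf jf F).map g
  comm₁₂ := (α Jf jf F).naturality g
  comm₂₃ := (πd Jf jf F).naturality g

variable [IsFiltered I] [HasColimitsOfShape I (Sheaf J AddCommGrpCat.{u})]
  [HasExactColimitsOfShape I (Sheaf J AddCommGrpCat.{u})]

lemma colimMap_α_πd : colimMap (α Jf jf F) ≫ colimMap (πd Jf jf F) = 0 := by
  have h := (SI Jf jf F).zero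
  have h2 := congrArg (fun φ => (colim : (I ⥤ Sheaf J AddCommGrpCat.{u}) ⥤ _).map φ) h
  simp only [Functor.map_comp, Functor.map_zero] at h2
  exact h2

/-- The colimit short exact sequence. -/
noncomputable abbrev Sinf : ShortComplex (Sheaf J AddCommGrpCat.{u}) :=
  ShortComplex.mk (colimMap (α Jf jf F)) (colimMap (πd Jf jf F)) (colimMap_α_πd Jf jf F)

lemma Sinf_shortExact : (Sinf Jf jf F).ShortExact :=
  (SI_shortExact Jf jf F).map_of_exact
    (colim : (I ⥤ Sheaf J AddCommGrpCat.{u}) ⥤ Sheaf J AddCommGrpCat.{u})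

/-- The maps from the stages to the colimit. -/
noncomputable def Sto (i : I) : Sst Jf jf F i ⟶ Sinf Jf jf F where
  τ₁ := colimit.ι F i
  τ₂ := colimit.ι (F ⋙ Jf) i
  τ₃ := colimit.ι (Qd Jf jf F) i
  comm₁₂ := ι_colimMap (α Jf jf F) i
  comm₂₃ := ι_colimMap (πd Jf jf F) i

end Emb

/-! ### The induction -/

section Induction

variable [∀ U : C, HasFiniteProducts (Over U)] [LocallySmall.{u} C]
  [J.WEqualsLocallyBijective AddCommGrpCat.{u}]
  [J.HasSheafCompose (forget AddCommGrpCat.{u})]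
  [EnoughInjectives (Sheaf J AddCommGrpCat.{u})]
  {I : Type w₁} [Category.{w₂} I] [IsFiltered I]
  [HasColimitsOfShape I AddCommGrpCat.{u}]
  [PreservesColimitsOfShape I (forget AddCommGrpCat.{u})]
  [HasColimitsOfShape I (Sheaf J AddCommGrpCat.{u})]
  [HasExactColimitsOfShape I (Sheaf J AddCommGrpCat.{u})]
  (Jf : Sheaf J AddCommGrpCat.{u} ⥤ Sheaf J AddCommGrpCat.{u})
  (jf : 𝟭 (Sheaf J AddCommGrpCat.{u}) ⟶ Jf)
  [hinj : ∀ X, Injective (Jf.obj X)] [hmono : ∀ X, Mono (jf.app X)]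
  {B : Set C} {Cov : ∀ (U : C) (ι : Type u), (ι → Over U) → Prop}
  (hsh : ∀ Q : Sheaf J AddCommGrpCat.{u}, Presieve.IsSheaf J (Q.obj ⋙ forget AddCommGrpCat.{u}))
  (h1 : ∀ (U : C) (ι : Type u) (Y : ι → Over U), Cov U ι Y → U ∈ B ∧
      Sieve.ofArrows (fun i => (Y i).left) (fun i => (Y i).hom) ∈ J U ∧
      ∀ (p : ℕ) (a : Fin (p + 1) → ι), (Uσ Y a).left ∈ B)
  (h2 : ∀ U ∈ B, ∀ T ∈ J U, ∃ (ι : Type u) (Y : ι → Over U), Cov U ι Y ∧
      ∀ i, T.arrows (Y i).hom)
  (hfin : ∀ (U : C) (ι : Type u) (Y : ι → Over U), Cov U ι Y → Finite ι)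
  (Z : Sheaf J AddCommGrpCat.{u}) (U₀ : C) (hU₀ : U₀ ∈ B)
  (sec : ∀ G : Sheaf J AddCommGrpCat.{u}, Ext Z G 0 ≃+ G.obj.obj (op U₀))
  (sec_push : ∀ {G G' : Sheaf J AddCommGrpCat.{u}} (φ : G ⟶ G') (x : Ext Z G 0),
    sec G' (push Z 0 φ x) = φ.hom.app (op U₀) (sec G x))

variable (I) in
/-- The statement that `Ext^n(Z, -)` commutes with `I`-indexed colimits, elementwise. -/
structure Comm (n : ℕ) : Prop where
  rep : ∀ (F : I ⥤ Sheaf J AddCommGrpCat.{u}) (x : Ext Z (colimit F) n),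
      ∃ (i : I) (y : Ext Z (F.obj i) n), push Z n (colimit.ι F i) y = x
  zero : ∀ (F : I ⥤ Sheaf J AddCommGrpCat.{u}) (i : I) (y : Ext Z (F.obj i) n),
      push Z n (colimit.ι F i) y = 0 → ∃ (j : I) (g : i ⟶ j), push Z n (F.map g) y = 0

include hsh h1 h2 hfin hU₀ sec_push in
lemma comm_zero : Comm I Z 0 where
  rep F x := by
    obtain ⟨i, t, ht⟩ := sec_rep hsh h1 h2 hfin (colimit.cocone F) (colimit.isColimit F) U₀ hU₀
      (sec (colimit F) x)
    refine ⟨i, (sec (F.obj i)).symm t, ?_⟩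
    apply (sec (colimit F)).injective
    rw [sec_push, AddEquiv.apply_symm_apply]
    exact ht
  zero F i y hy := by
    have h0 : (colimit.ι F i).hom.app (op U₀) (sec (F.obj i) y) = 0 := by
      rw [← sec_push, hy, map_zero]
    obtain ⟨j, g, hg⟩ := sec_zero hsh h1 h2 hfin (colimit.cocone F) (colimit.isColimit F) U₀ hU₀ i
      (sec (F.obj i) y) h0
    refine ⟨j, g, ?_⟩
    apply (sec (F.obj j)).injective
    rw [sec_push, map_zero]
    exact hg

include hsh h1 h2 hfin hU₀ sec_push in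
/-- A `Cov`-Čech-acyclic sheaf is `Ext^•(Z, -)`-acyclic. -/
lemma ext_eq_zero_of_covAcyclic (G : Sheaf J AddCommGrpCat.{u}) (hG : CovAcyclic Cov G)
    (n : ℕ) (x : Ext Z G (n + 1)) : x = 0 := by
  refine ext_succ_eq_zero_of_class Z (CovAcyclic Cov) ?_ (fun _ hG => hG.quot hsh h1 h2) n G hG x
  intro G hG x₃
  obtain ⟨s, hs⟩ := surjective_of_covAcyclic hsh h1 h2 (injSC G) (injSC_shortExact G) hG U₀ hU₀
    (sec _ x₃)
  refine ⟨(sec _).symm s, ?_⟩
  apply (sec _).injective
  have := sec_push (injSC G).g ((sec _).symm s)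
  rw [push_apply] at this
  rw [this, AddEquiv.apply_symm_apply]
  exact hs

include hsh h1 h2 hfin hU₀ sec_push in
/-- The colimit of the injective diagram is acyclic. -/
lemma ext_colimit_injective_eq_zero (F : I ⥤ Sheaf J AddCommGrpCat.{u})
    (n : ℕ) (x : Ext Z (colimit (F ⋙ Jf)) (n + 1)) : x = 0 := by
  have hacyc : CovAcyclic Cov (colimit (F ⋙ Jf)) :=
    covAcyclic_colimit hsh h1 h2 hfin (colimit.cocone (F ⋙ Jf)) (colimit.isColimit _)
      (fun i U ι Y _ p => acyc_of_injective_sheaf (Jf.obj (F.obj i)) Y p)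
  exact ext_eq_zero_of_covAcyclic hsh h1 h2 hfin Z U₀ hU₀ sec sec_push _ hacyc n x

include Jf jf hinj hmono hsh h1 h2 hfin hU₀ sec_push in
lemma comm_succ (n : ℕ) (ih : Comm I Z n) : Comm I Z (n + 1) where
  rep F x := by
    have hz : push Z (n + 1) (colimMap (α Jf jf F)) x = 0 :=
      ext_colimit_injective_eq_zero Jf hsh h1 h2 hfin Z U₀ hU₀ sec sec_push F n _
    obtain ⟨x₃, hx₃⟩ : ∃ x₃ : Ext Z (colimit (Qd Jf jf F)) n,
        dl Z n (Sinf_shortExact Jf jf F) x₃ = x :=
      exists_of_push_f_eq_zero Z n (Sinf_shortExact Jf jf F) x hz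
    obtain ⟨i, y₃, hy₃⟩ := ih.rep (Qd Jf jf F) x₃
    refine ⟨i, dl Z n (Sst_shortExact Jf jf F i) y₃, ?_⟩
    have hnat := dl_natural Z n (Sst_shortExact Jf jf F i) (Sinf_shortExact Jf jf F)
      (Sto Jf jf F i) y₃
    change push Z (n + 1) (colimit.ι F i) (dl Z n (Sst_shortExact Jf jf F i) y₃) =
      dl Z n (Sinf_shortExact Jf jf F) (push Z n (colimit.ι (Qd Jf jf F) i) y₃) at hnat
    rw [hnat, hy₃, hx₃]
  zero F i y hy := by
    -- `y = δ q`
    have hz : push Z (n + 1) ((α Jf jf F).app i) y = 0 := Ext.eq_zero_of_injective _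
    obtain ⟨q, hq⟩ : ∃ q : Ext Z ((Qd Jf jf F).obj i) n,
        dl Z n (Sst_shortExact Jf jf F i) q = y :=
      exists_of_push_f_eq_zero Z n (Sst_shortExact Jf jf F i) y hz
    -- the image of `q` in the colimit comes from `r`
    have hnat := dl_natural Z n (Sst_shortExact Jf jf F i) (Sinf_shortExact Jf jf F)
      (Sto Jf jf F i) q
    change push Z (n + 1) (colimit.ι F i) (dl Z n (Sst_shortExact Jf jf F i) q) =
      dl Z n (Sinf_shortExact Jf jf F) (push Z n (colimit.ι (Qd Jf jf F) i) q) at hnat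
    rw [hq, hy] at hnat
    obtain ⟨r, hr⟩ : ∃ r : Ext Z (colimit (F ⋙ Jf)) n,
        push Z n (colimMap (πd Jf jf F)) r = push Z n (colimit.ι (Qd Jf jf F) i) q :=
      exists_of_dl_eq_zero Z n (Sinf_shortExact Jf jf F) _ hnat.symm
    obtain ⟨k, rk, hrk⟩ := ih.rep (F ⋙ Jf) r
    -- a common stage
    let m := IsFiltered.max i k
    let a : i ⟶ m := IsFiltered.leftToMax i k
    let b : k ⟶ m := IsFiltered.rightToMax i k
    let q' : Ext Z ((Qd Jf jf F).obj m) n :=
      push Z n ((Qd Jf jf F).map a) q - push Z n ((πd Jf jf F).app m) (push Z n ((F ⋙ Jf).map b) rk)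
    have hq' : push Z n (colimit.ι (Qd Jf jf F) m) q' = 0 := by
      have e1 : push Z n (colimit.ι (Qd Jf jf F) m) (push Z n ((Qd Jf jf F).map a) q) =
          push Z n (colimit.ι (Qd Jf jf F) i) q := by
        rw [← push_comp, colimit.w]
      have e2 : push Z n (colimit.ι (Qd Jf jf F) m)
          (push Z n ((πd Jf jf F).app m) (push Z n ((F ⋙ Jf).map b) rk)) =
          push Z n (colimMap (πd Jf jf F)) r := by
        rw [← hrk, ← push_comp, ← push_comp, ← push_comp]
        congr 1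
        have h3 : ((πd Jf jf F).app m) ≫ colimit.ι (Qd Jf jf F) m =
            colimit.ι (F ⋙ Jf) m ≫ (colimMap (πd Jf jf F)) := (ι_colimMap (πd Jf jf F) m).symm
        rw [h3, ← Category.assoc, colimit.w]
      change push Z n (colimit.ι (Qd Jf jf F) m) (_ - _) = 0
      rw [map_sub, e1, e2, hr, sub_self]
    obtain ⟨l, w, hw⟩ := ih.zero (Qd Jf jf F) m q' hq'
    refine ⟨l, a ≫ w, ?_⟩
    have hnat2 := dl_natural Z n (Sst_shortExact Jf jf F i) (Sst_shortExact Jf jf F l)
      (Str Jf jf F (a ≫ w)) q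
    change push Z (n + 1) (F.map (a ≫ w)) (dl Z n (Sst_shortExact Jf jf F i) q) =
      dl Z n (Sst_shortExact Jf jf F l) (push Z n ((Qd Jf jf F).map (a ≫ w)) q) at hnat2
    rw [← hq, hnat2]
    -- `q` pushed to stage `l` comes from the middle term
    have e3 : push Z n ((Qd Jf jf F).map (a ≫ w)) q =
        push Z n ((πd Jf jf F).app l) (push Z n ((F ⋙ Jf).map (b ≫ w)) rk) := by
      have h4 : push Z n ((Qd Jf jf F).map w) q' = 0 := hw
      change push Z n ((Qd Jf jf F).map w) (_ - _) = 0 at h4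
      rw [map_sub, sub_eq_zero, ← push_comp, ← (Qd Jf jf F).map_comp] at h4
      rw [h4, ← push_comp, ← push_comp, ← push_comp]
      congr 1
      have h5 : ((πd Jf jf F).app m) ≫ (Qd Jf jf F).map w = (F ⋙ Jf).map w ≫ ((πd Jf jf F).app l) :=
        ((πd Jf jf F).naturality w).symm
      rw [h5, (F ⋙ Jf).map_comp, Category.assoc]
    rw [e3]
    exact dl_push_g Z n (Sst_shortExact Jf jf F l) _

include Jf jf hinj hmono hsh h1 h2 hfin hU₀ sec_push in
theorem comm (n : ℕ) : Comm I Z n := by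
  induction n with
  | zero => exact comm_zero hsh h1 h2 hfin Z U₀ hU₀ sec sec_push
  | succ n ih => exact comm_succ Jf jf hsh h1 h2 hfin Z U₀ hU₀ sec sec_push n ih

end Induction

end Groth.Agent.Lib.Helper22.ColimCohU
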