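import Groth.Agent.Lib.Helper22.ColimCohU.Local

/-!
# A local criterion for a cocone of abelian sheaves over a filtered diagram to be a colimit
-/

set_option autoImplicit false
set_option linter.unusedSectionVars false

universe w₂ w₁ v u' u

open CategoryTheory CategoryTheory.Limits Opposite

namespace Groth.Agent.Lib.Helper22.ColimCohU

variable {C : Type u'} [Category.{v} C] {J : GrothendieckTopology C}
  {I : Type w₁} [Category.{w₂} I] [IsFiltered I]
  [HasColimitsOfShape I AddCommGrpCat.{u}]
  [PreservesColimitsOfShape I (forget AddCommGrpCat.{u})]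
  [HasSheafify J AddCommGrpCat.{u}]
  [J.WEqualsLocallyBijective AddCommGrpCat.{u}]
  [J.HasSheafCompose (forget AddCommGrpCat.{u})]
  [HasColimitsOfShape I (Sheaf J AddCommGrpCat.{u})]
  {F : I ⥤ Sheaf J AddCommGrpCat.{u}}

/-- A morphism of abelian sheaves which is injective on sections is a monomorphism. -/
lemma mono_of_injective {G G' : Sheaf J AddCommGrpCat.{u}} (φ : G ⟶ G')
    (h : ∀ U : C, Function.Injective (φ.hom.app (op U))) : Mono φ := by
  have : Mono φ.hom := by
    refine @NatTrans.mono_of_mono_app _ _ _ _ _ _ φ.hom (fun U => ?_)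
    rw [AddCommGrpCat.mono_iff_injective]
    exact h U.unop
  exact Sheaf.Hom.mono_of_presheaf_mono _ _ φ

/-- Sections of an abelian sheaf vanishing on a covering sieve vanish. -/
lemma eq_zero_of_sieve
    (hsh : ∀ Q : Sheaf J AddCommGrpCat.{u}, Presieve.IsSheaf J (Q.obj ⋙ forget AddCommGrpCat.{u}))
    (G : Sheaf J AddCommGrpCat.{u}) {U : C} (s : G.obj.obj (op U)) (T : Sieve U) (hT : T ∈ J U)
    (h : ∀ ⦃V : C⦄ (f : V ⟶ U), T f → G.obj.map f.op s = 0) : s = 0 := by
  have hS := hsh G T hT
  refine hS.isSeparatedFor.ext fun V f hf => ?_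
  change G.obj.map f.op s = G.obj.map f.op 0
  rw [h f hf, map_zero]

/-- **Local criterion**: a cocone over a filtered diagram of abelian sheaves is a colimit as soon
as every section of its point locally comes from a stage, and every section of a stage dying in
the point locally dies at a later stage. -/
theorem isColimit_of_local
    (hsh : ∀ Q : Sheaf J AddCommGrpCat.{u}, Presieve.IsSheaf J (Q.obj ⋙ forget AddCommGrpCat.{u}))
    (c : Cocone F)
    (ha : ∀ (U : C) (s : c.pt.obj.obj (op U)), ∃ T ∈ J U, ∀ ⦃V : C⦄ (f : V ⟶ U), T f →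
      ∃ (i : I) (t : (F.obj i).obj.obj (op V)),
        (c.ι.app i).hom.app (op V) t = c.pt.obj.map f.op s)
    (hb : ∀ (U : C) (i : I) (t : (F.obj i).obj.obj (op U)),
      (c.ι.app i).hom.app (op U) t = 0 → ∃ T ∈ J U, ∀ ⦃V : C⦄ (f : V ⟶ U), T f →
        ∃ (j : I) (g : i ⟶ j), (F.map g).hom.app (op V) ((F.obj i).obj.map f.op t) = 0) :
    Nonempty (IsColimit c) := by
  let φ : colimit F ⟶ c.pt := colimit.desc F c
  have hφ : ∀ (i : I) (V : C) (t : (F.obj i).obj.obj (op V)),
      φ.hom.app (op V) ((colimit.ι F i).hom.app (op V) t) = (c.ι.app i).hom.app (op V) t := by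
    intro i V t
    have h : colimit.ι F i ≫ φ = c.ι.app i := colimit.ι_desc c i
    exact congrArg (fun ψ : F.obj i ⟶ c.pt => ψ.hom.app (op V) t) h
  have hepi : Epi φ := by
    have : Sheaf.IsLocallySurjective φ := by
      constructor
      intro U s
      obtain ⟨T, hT, h⟩ := ha U s
      refine J.superset_covering ?_ hT
      intro V f hf
      obtain ⟨i, t, ht⟩ := h f hf
      exact ⟨(colimit.ι F i).hom.app (op V) t, (hφ i V t).trans ht⟩
    exact Sheaf.epi_of_isLocallySurjective _
  have hmono : Mono φ := by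
    apply mono_of_injective
    intro U
    refine (injective_iff_map_eq_zero _).2 fun s hs => ?_
    obtain ⟨T₁, hT₁, h₁⟩ := local_rep (colimit.cocone F) (colimit.isColimit F) U s
    refine eq_zero_of_sieve hsh _ s T₁ hT₁ fun V f hf => ?_
    obtain ⟨i, t, ht⟩ := h₁ f hf
    have ht' : (colimit.ι F i).hom.app (op V) t = (colimit F).obj.map f.op s := ht
    have h0 : (c.ι.app i).hom.app (op V) t = 0 := by
      rw [← hφ, ht']
      have := NatTrans.naturality_apply φ.hom f.op s
      rw [this, hs, map_zero]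
    obtain ⟨T₂, hT₂, h₂⟩ := hb V i t h0
    rw [← ht']
    refine eq_zero_of_sieve hsh _ _ T₂ hT₂ fun W g hg => ?_
    obtain ⟨j, k, hk⟩ := h₂ g hg
    have e1 : (colimit F).obj.map g.op ((colimit.ι F i).hom.app (op V) t) =
        (colimit.ι F i).hom.app (op W) ((F.obj i).obj.map g.op t) :=
      (NatTrans.naturality_apply (colimit.ι F i).hom g.op t).symm
    have e2 : (colimit.ι F i).hom.app (op W) ((F.obj i).obj.map g.op t) =
        (colimit.ι F j).hom.app (op W) ((F.map k).hom.app (op W) ((F.obj i).obj.map g.op t)) := by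
      have h : F.map k ≫ colimit.ι F j = colimit.ι F i := colimit.w F k
      exact (congrArg (fun ψ : F.obj i ⟶ colimit F =>
        ψ.hom.app (op W) ((F.obj i).obj.map g.op t)) h).symm
    rw [e1, e2, hk, map_zero]
  have h1 : IsIso φ := isIso_of_mono_of_epi φ
  have h2 : IsIso ((colimit.isColimit F).desc c) := h1
  exact ⟨IsColimit.ofPointIso (colimit.isColimit F)⟩

end Groth.Agent.Lib.Helper22.ColimCohU
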