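import Mathlib

/-!
# Filtered colimits of abelian sheaves: local description of sections (universe-general)

For a filtered diagram `F : I ⥤ Sheaf J Ab` with colimit cocone `c`, every section of `c.pt` is
locally in the image of some `F i`, and a section of `F i` dying in `c.pt` dies locally at a later
stage. Here the site `C` is not assumed small.
-/

set_option autoImplicit false
set_option linter.unusedSectionVars false

universe w₃ w₂ w₁ v u' u

open CategoryTheory CategoryTheory.Limits Opposite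

namespace Groth.Agent.Lib.Helper22.ColimCohU

section Filt

variable {I : Type w₁} [Category.{w₂} I] [IsFiltered I]

/-- A finite family of upward-closed conditions on arrows out of `i`, each satisfiable, is
simultaneously satisfiable. -/
lemma exists_common (i : I) (κ : Type w₃) [Finite κ]
    (p : κ → ∀ j : I, (i ⟶ j) → Prop)
    (hp : ∀ (k : κ) (j : I) (f : i ⟶ j) (j' : I) (g : j ⟶ j'), p k j f → p k j' (f ≫ g))
    (h : ∀ k, ∃ (j : I) (f : i ⟶ j), p k j f) : ∃ (j : I) (f : i ⟶ j), ∀ k, p k j f := by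
  revert p
  refine Finite.induction_empty_option (P := fun κ : Type w₃ =>
    ∀ (p : κ → ∀ j : I, (i ⟶ j) → Prop),
      (∀ (k : κ) (j : I) (f : i ⟶ j) (j' : I) (g : j ⟶ j'), p k j f → p k j' (f ≫ g)) →
      (∀ k, ∃ (j : I) (f : i ⟶ j), p k j f) → ∃ (j : I) (f : i ⟶ j), ∀ k, p k j f)
    ?_ ?_ ?_ κ
  · intro α β e hα p hp h
    obtain ⟨j, f, hf⟩ := hα (fun a => p (e a)) (fun a => hp (e a)) (fun a => h (e a))
    refine ⟨j, f, fun b => ?_⟩
    have := hf (e.symm b)
    rwa [e.apply_symm_apply] at this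
  · intro p _ _
    exact ⟨i, 𝟙 i, fun k => k.elim⟩
  · intro α _ hα p hp h
    obtain ⟨j, f, hf⟩ := hα (fun a => p (some a)) (fun a => hp (some a)) (fun a => h (some a))
    obtain ⟨j', f', hf'⟩ := h none
    obtain ⟨m, g, g', hg⟩ := IsFiltered.span f f'
    refine ⟨m, f ≫ g, fun k => ?_⟩
    cases k with
    | none =>
      rw [hg]
      exact hp none j' f' m g' hf'
    | some a => exact hp (some a) j f m g (hf a)

/-- A finite family of upward-closed conditions on objects, each satisfiable, is simultaneously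
satisfiable. -/
lemma exists_common_obj (κ : Type w₃) [Finite κ] (p : κ → I → Prop)
    (hp : ∀ (k : κ) (j j' : I) (_ : j ⟶ j'), p k j → p k j')
    (h : ∀ k, ∃ j : I, p k j) : ∃ j : I, ∀ k, p k j := by
  obtain ⟨i₀⟩ := IsFiltered.nonempty (C := I)
  obtain ⟨j, _, hj⟩ := exists_common i₀ κ (fun k j _ => p k j)
    (fun k j _ j' g hk => hp k j j' g hk)
    (fun k => by
      obtain ⟨j, hj⟩ := h k
      exact ⟨IsFiltered.max i₀ j, IsFiltered.leftToMax i₀ j,
        hp k j _ (IsFiltered.rightToMax i₀ j) hj⟩)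
  exact ⟨j, hj⟩

end Filt

variable {C : Type u'} [Category.{v} C] {J : GrothendieckTopology C}
  {I : Type w₁} [Category.{w₂} I] [IsFiltered I]
  [HasColimitsOfShape I AddCommGrpCat.{u}]
  [PreservesColimitsOfShape I (forget AddCommGrpCat.{u})]
  [HasSheafify J AddCommGrpCat.{u}]
  [J.WEqualsLocallyBijective AddCommGrpCat.{u}]
  (F : I ⥤ Sheaf J AddCommGrpCat.{u})

/-- The presheaf-level colimit cocone. -/
noncomputable abbrev E : Cocone (F ⋙ sheafToPresheaf J AddCommGrpCat.{u}) := colimit.cocone _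

/-- The standard colimit cocone of sheaves. -/
noncomputable abbrev c₀ : Cocone F := Sheaf.sheafifyCocone (E F)

/-- It is a colimit. -/
noncomputable def hc₀ : IsColimit (c₀ F) :=
  Sheaf.isColimitSheafifyCocone _ (colimit.isColimit _)

lemma c₀_ι_app (i : I) (V : C) (y : (F.obj i).obj.obj (op V)) :
    ((c₀ F).ι.app i).hom.app (op V) y =
      (CategoryTheory.toSheafify J (E F).pt).app (op V) (((E F).ι.app i).app (op V) y) := by
  have h := Sheaf.sheafifyCocone_ι_app_val (E F) i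
  have h2 := congrArg (fun φ => φ.app (op V)) h
  exact ConcreteCategory.congr_hom h2 y

/-- Sections of the presheaf colimit come from a finite stage. -/
lemma E_rep (V : C) (x : (E F).pt.obj (op V)) :
    ∃ (i : I) (y : (F.obj i).obj.obj (op V)), ((E F).ι.app i).app (op V) y = x := by
  have hcol : IsColimit (((evaluation Cᵒᵖ AddCommGrpCat.{u}).obj (op V)).mapCocone (E F)) :=
    isColimitOfPreserves _ (colimit.isColimit _)
  obtain ⟨i, y, hy⟩ := Concrete.isColimit_exists_rep _ hcol x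
  exact ⟨i, y, hy⟩

/-- Sections dying in the presheaf colimit die at a finite stage. -/
lemma E_zero (V : C) (i : I) (y : (F.obj i).obj.obj (op V))
    (hy : ((E F).ι.app i).app (op V) y = 0) :
    ∃ (j : I) (g : i ⟶ j), (F.map g).hom.app (op V) y = 0 := by
  have hcol : IsColimit (((evaluation Cᵒᵖ AddCommGrpCat.{u}).obj (op V)).mapCocone (E F)) :=
    isColimitOfPreserves _ (colimit.isColimit _)
  have h0 : ((E F).ι.app i).app (op V) y = ((E F).ι.app i).app (op V) 0 := by
    rw [hy, map_zero]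
  obtain ⟨k, f, g, hfg⟩ := Concrete.isColimit_exists_of_rep_eq _ hcol y 0 h0
  refine ⟨k, f, ?_⟩
  have : (F.map f).hom.app (op V) y = (F.map g).hom.app (op V) 0 := hfg
  rw [this, map_zero]

lemma local_rep₀ (U : C) (s : (c₀ F).pt.obj.obj (op U)) :
    ∃ T ∈ J U, ∀ ⦃V : C⦄ (f : V ⟶ U), T f →
      ∃ (i : I) (t : (F.obj i).obj.obj (op V)),
        ((c₀ F).ι.app i).hom.app (op V) t = (c₀ F).pt.obj.map f.op s := by
  refine ⟨_, Presheaf.imageSieve_mem J (CategoryTheory.toSheafify J (E F).pt) s, ?_⟩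
  intro V f hf
  obtain ⟨x, hx⟩ := hf
  obtain ⟨i, y, hy⟩ := E_rep F V x
  refine ⟨i, y, ?_⟩
  rw [c₀_ι_app, hy]
  exact hx

lemma local_zero₀ (U : C) (i : I) (t : (F.obj i).obj.obj (op U))
    (ht : ((c₀ F).ι.app i).hom.app (op U) t = 0) :
    ∃ T ∈ J U, ∀ ⦃V : C⦄ (f : V ⟶ U), T f →
      ∃ (j : I) (g : i ⟶ j), (F.map g).hom.app (op V) ((F.obj i).obj.map f.op t) = 0 := by
  rw [c₀_ι_app] at ht
  have h0 : (CategoryTheory.toSheafify J (E F).pt).app (op U) (((E F).ι.app i).app (op U) t) =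
      (CategoryTheory.toSheafify J (E F).pt).app (op U) 0 :=
    ht.trans (map_zero _).symm
  refine ⟨_, Presheaf.equalizerSieve_mem J (CategoryTheory.toSheafify J (E F).pt) _ _ h0, ?_⟩
  intro V f hf
  have hf' : (E F).pt.map f.op (((E F).ι.app i).app (op U) t) = (E F).pt.map f.op 0 := hf
  rw [map_zero] at hf'
  apply E_zero F V i
  rw [← hf']
  exact (NatTrans.naturality_apply ((E F).ι.app i) f.op t)

variable {F} (c : Cocone F) (hc : IsColimit c)

include hc in
lemma local_rep (U : C) (s : c.pt.obj.obj (op U)) :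
    ∃ T ∈ J U, ∀ ⦃V : C⦄ (f : V ⟶ U), T f →
      ∃ (i : I) (t : (F.obj i).obj.obj (op V)),
        (c.ι.app i).hom.app (op V) t = c.pt.obj.map f.op s := by
  let e : (c₀ F).pt ≅ c.pt := (hc₀ F).coconePointUniqueUpToIso hc
  have he : ∀ i, (c₀ F).ι.app i ≫ e.hom = c.ι.app i := fun i =>
    (hc₀ F).comp_coconePointUniqueUpToIso_hom hc i
  obtain ⟨T, hT, h⟩ := local_rep₀ F U (e.inv.hom.app (op U) s)
  refine ⟨T, hT, fun V f hf => ?_⟩
  obtain ⟨i, t, ht⟩ := h f hf
  refine ⟨i, t, ?_⟩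
  have h1 : (c.ι.app i).hom.app (op V) t =
      e.hom.hom.app (op V) (((c₀ F).ι.app i).hom.app (op V) t) := by
    rw [← he i]
    rfl
  rw [h1, ht]
  have h2 : e.hom.hom.app (op V) ((c₀ F).pt.obj.map f.op (e.inv.hom.app (op U) s)) =
      c.pt.obj.map f.op (e.hom.hom.app (op U) (e.inv.hom.app (op U) s)) :=
    NatTrans.naturality_apply e.hom.hom f.op _
  rw [h2]
  congr 1
  have h3 : e.inv ≫ e.hom = 𝟙 _ := e.inv_hom_id
  have h4 := congrArg (fun φ : c.pt ⟶ c.pt => φ.hom.app (op U) s) h3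
  exact h4

include hc in
lemma local_zero (U : C) (i : I) (t : (F.obj i).obj.obj (op U))
    (ht : (c.ι.app i).hom.app (op U) t = 0) :
    ∃ T ∈ J U, ∀ ⦃V : C⦄ (f : V ⟶ U), T f →
      ∃ (j : I) (g : i ⟶ j), (F.map g).hom.app (op V) ((F.obj i).obj.map f.op t) = 0 := by
  let e : (c₀ F).pt ≅ c.pt := (hc₀ F).coconePointUniqueUpToIso hc
  have he : ∀ i, (c₀ F).ι.app i ≫ e.hom = c.ι.app i := fun i =>
    (hc₀ F).comp_coconePointUniqueUpToIso_hom hc i
  apply local_zero₀ F U i t
  have h1 : (c.ι.app i).hom.app (op U) t =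
      e.hom.hom.app (op U) (((c₀ F).ι.app i).hom.app (op U) t) := by
    rw [← he i]
    rfl
  rw [h1] at ht
  have h3 : e.hom ≫ e.inv = 𝟙 _ := e.hom_inv_id
  have h4 := congrArg (fun φ : (c₀ F).pt ⟶ (c₀ F).pt =>
    φ.hom.app (op U) (((c₀ F).ι.app i).hom.app (op U) t)) h3
  have h5 : e.inv.hom.app (op U) (e.hom.hom.app (op U) (((c₀ F).ι.app i).hom.app (op U) t)) =
      ((c₀ F).ι.app i).hom.app (op U) t := h4
  rw [← h5, ht, map_zero]

end Groth.Agent.Lib.Helper22.ColimCohU
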