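import Groth.Agent.Lib.Helper22.ColimCohU.Etale
import Groth.Agent.Lib.Helper22.ColimCohU.IsColimit
import Groth.Agent.Lib.Helper22.EtLoc.Push

set_option autoImplicit false
set_option linter.unusedSectionVars false

universe w₂ w₁ u

open CategoryTheory CategoryTheory.Limits Opposite AlgebraicGeometry Abelian

namespace Groth.Agent.Lib.Helper22.ColimCohU.Etale

open Groth.Agent.Lib.Helper22.CechU Groth.Agent.Lib.Helper22.CechU.Site
open Groth.Agent.Lib.Helper22.CechU.Etale Groth.Agent.Lib.Helper22.EtLoc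
open Groth.Agent.Lib.Helper22.DimShift

variable {X Y : Scheme.{u}}

lemma qcqs_pullback {V X Y : Scheme.{u}} (v : V ⟶ Y) (g : X ⟶ Y) [QuasiCompact g]
    [QuasiSeparated g] [IsAffine V] :
    CompactSpace ↥(pullback v g) ∧ QuasiSeparatedSpace ↥(pullback v g) := by
  have h1 : QuasiCompact (pullback.fst v g) := inferInstance
  have h2 : QuasiSeparated (pullback.fst v g) := inferInstance
  exact ⟨QuasiCompact.compactSpace_of_compactSpace (pullback.fst v g),
    quasiSeparatedSpace_of_quasiSeparated (pullback.fst v g)⟩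

/-- The base change of an affine étale scheme along a qcqs morphism is qcqs. -/
lemma bc_mem_Bq (g : X ⟶ Y) [QuasiCompact g] [QuasiSeparated g] (V : Y.Etale)
    [hV : IsAffine V.left] : (EtCoh.bc g).obj V ∈ Bq X := by
  let v : V.left ⟶ Y := V.hom
  exact @qcqs_pullback V.left X Y v g _ _ hV

/-- Affine open neighbourhoods in the small étale site. -/
lemma exists_affine_nbhd (V : Y.Etale) (y : ↥(V.left)) :
    ∃ (V' : Y.Etale) (f : V' ⟶ V) (y' : ↥(V'.left)), IsAffine V'.left ∧ f.left.base y' = y := by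
  have hE : Etale (V.hom : V.left ⟶ Y) := V.prop
  obtain ⟨W, hW, hyW, -⟩ := exists_isAffineOpen_mem_and_subset (x := y) (U := ⊤) trivial
  let V' : Y.Etale := Scheme.Etale.mk (W.ι ≫ V.hom)
  let f : V' ⟶ V := MorphismProperty.Over.homMk W.ι rfl trivial
  exact ⟨V', f, ⟨y, hyW⟩, hW, rfl⟩

/-- Quotients of `Covq`-Čech-acyclic sheaves by `Covq`-Čech-acyclic subsheaves. -/
lemma covAcyclic_quot (S : ShortComplex (EtCoh.Ab X)) (hS : S.ShortExact)
    (h1 : CovAcyclic (Covq X) S.X₁) (h2 : CovAcyclic (Covq X) S.X₂) :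
    CovAcyclic (Covq X) S.X₃ := by
  intro U ι Yf hY p
  have hse : SecExact Yf (rMap (U := U) S.f.hom) (rMap S.g.hom) :=
    secExact_of_shortExact Yf S hS fun n σ =>
      surjective_of_covAcyclic (fun Q => isSheaf_forget Q) h1q h2q S hS h1 _
        ((h1q U ι Yf hY).2.2 n σ)
  exact hse.acyc_quot p (h2 U ι Yf hY p) (h1 U ι Yf hY (p + 1))

/-- Direct image along a qcqs morphism of an epimorphism with `Covq`-Čech-acyclic kernel. -/
theorem epi_push_map_of_covAcyclic (g : X ⟶ Y) [QuasiCompact g] [QuasiSeparated g]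
    (S : ShortComplex (EtCoh.Ab X)) (hS : S.ShortExact) (h1 : CovAcyclic (Covq X) S.X₁) :
    Epi ((EtCoh.push g).map S.g) := by
  have : Sheaf.IsLocallySurjective ((EtCoh.push g).map S.g) := by
    constructor
    intro V t
    rw [mem_smallEtaleTopology_iff]
    intro y
    obtain ⟨V', f, y', hV', hy'⟩ := exists_affine_nbhd V y
    refine ⟨V', f, y', ?_, hy'⟩
    have hB : (EtCoh.bc g).obj V' ∈ Bq X := bc_mem_Bq g V'
    obtain ⟨s, hs⟩ := surjective_of_covAcyclic (fun Q => isSheaf_forget Q) h1q h2q S hS h1 _ hB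
      (((EtCoh.push g).obj S.X₃).obj.map f.op t)
    exact ⟨s, hs⟩
  exact Sheaf.epi_of_isLocallySurjective _

/-- Higher direct images along a qcqs morphism of `Covq`-Čech-acyclic sheaves vanish. -/
theorem isZero_Rpush_succ_of_covAcyclic (g : X ⟶ Y) [QuasiCompact g] [QuasiSeparated g]
    (G : EtCoh.Ab X) (hG : CovAcyclic (Covq X) G) (n : ℕ) :
    IsZero ((EtCoh.Rpush g (n + 1)).obj G) := by
  have : PreservesLimits (EtCoh.push g) := (EtCoh.pullPushAdj g).rightAdjoint_preservesLimits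
  refine Groth.Agent.Lib.Helper22.AdaptedAcyclic.isZero_rightDerived_succ
    (F := EtCoh.push g) (I := fun F : EtCoh.Ab X => CovAcyclic (Covq X) F) ?_ ?_ n G hG
  · intro F
    exact ⟨Injective.under F, Injective.ι F,
      fun U ι Yf _ p => acyc_of_injective_sheaf (Injective.under F) Yf p, inferInstance⟩
  · intro S hS h1 h2
    exact ⟨covAcyclic_quot S hS h1 h2,
      shortExact_map_of_epi' (EtCoh.push g) hS (epi_push_map_of_covAcyclic g S hS h1)⟩

/-! ### Joint local surjectivity of `R^q g_*` on filtered colimits -/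

section LS

variable (g : X ⟶ Y) [QuasiCompact g] [QuasiSeparated g]
  (I : Type w₁) [Category.{w₂} I] [IsFiltered I]
  [HasColimitsOfShape I AddCommGrpCat.{u + 1}]
  [PreservesColimitsOfShape I (forget AddCommGrpCat.{u + 1})]
  [HasColimitsOfShape I (EtCoh.Ab X)]
  [HasExactColimitsOfShape I (EtCoh.Ab X)]

/-- Every section of `R^q g_* (colim D)` locally comes from a stage. -/
def LS (q : ℕ) : Prop :=
  ∀ (D : I ⥤ EtCoh.Ab X) (V : Y.Etale)
    (s : ((EtCoh.Rpush g q).obj (colimit D)).obj.obj (op V)) (y : ↥(V.left)),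
    ∃ (V' : Y.Etale) (f : V' ⟶ V) (y' : ↥(V'.left)), f.left.base y' = y ∧
      ∃ (i : I) (t : ((EtCoh.Rpush g q).obj (D.obj i)).obj.obj (op V')),
        ((EtCoh.Rpush g q).map (colimit.ι D i)).hom.app (op V') t =
          ((EtCoh.Rpush g q).obj (colimit D)).obj.map f.op s

lemma iso_apply_aux {A B : EtCoh.Ab Y} (e : A ⟶ B) [IsIso e] (V : Y.Etale)
    (s : B.obj.obj (op V)) : e.hom.app (op V) ((inv e).hom.app (op V) s) = s := by
  have h : inv e ≫ e = 𝟙 B := IsIso.inv_hom_id e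
  exact congrArg (fun ψ : B ⟶ B => ψ.hom.app (op V) s) h

theorem LS_zero : LS g I 0 := by
  intro D V s y
  have : PreservesLimits (EtCoh.push g) := (EtCoh.pullPushAdj g).rightAdjoint_preservesLimits
  let η := (EtCoh.push g).toRightDerivedZero
  let s₀ : ((EtCoh.push g).obj (colimit D)).obj.obj (op V) :=
    (inv (η.app (colimit D))).hom.app (op V) s
  have hs₀ : (η.app (colimit D)).hom.app (op V) s₀ = s := iso_apply_aux _ V s
  obtain ⟨V', f, y', hV', hy'⟩ := exists_affine_nbhd V y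
  have hB : (EtCoh.bc g).obj V' ∈ Bq X := bc_mem_Bq g V'
  obtain ⟨i, t₀, ht₀⟩ := sec_rep (fun Q => isSheaf_forget Q) h1q h2q hfinq (colimit.cocone D)
    (colimit.isColimit D) _ hB (((EtCoh.push g).obj (colimit D)).obj.map f.op s₀)
  refine ⟨V', f, y', hy', i, (η.app (D.obj i)).hom.app (op V') t₀, ?_⟩
  have hnat := η.naturality (colimit.ι D i)
  have h1 := congrArg (fun ψ : (EtCoh.push g).obj (D.obj i) ⟶ (EtCoh.Rpush g 0).obj (colimit D) =>
    ψ.hom.app (op V') t₀) hnat
  have h1' : ((EtCoh.Rpush g 0).map (colimit.ι D i)).hom.app (op V')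
      ((η.app (D.obj i)).hom.app (op V') t₀) =
      (η.app (colimit D)).hom.app (op V')
        (((EtCoh.push g).map (colimit.ι D i)).hom.app (op V') t₀) := h1.symm
  rw [h1']
  have h2 : ((EtCoh.push g).map (colimit.ι D i)).hom.app (op V') t₀ =
      ((EtCoh.push g).obj (colimit D)).obj.map f.op s₀ := ht₀
  rw [h2, ← hs₀]
  exact NatTrans.naturality_apply (η.app (colimit D)).hom f.op s₀

open Groth.Agent.Lib.Helper22.Horseshoe in
theorem LS_succ (Jf : EtCoh.Ab X ⥤ EtCoh.Ab X) (jf : 𝟭 (EtCoh.Ab X) ⟶ Jf)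
    [hinj : ∀ G, Injective (Jf.obj G)] [hmono : ∀ G, Mono (jf.app G)]
    (q : ℕ) (ih : LS g I q) : LS g I (q + 1) := by
  intro D V s y
  let Δ := derivedLES (EtCoh.push g)
  have hSinf := Sinf_shortExact Jf jf D
  -- the middle term of the colimit sequence has no higher direct images
  have hacyc : CovAcyclic (Covq X) (colimit (D ⋙ Jf)) :=
    covAcyclic_colimit (fun Q => isSheaf_forget Q) h1q h2q hfinq (colimit.cocone (D ⋙ Jf))
      (colimit.isColimit _)
      (fun i U ι Yf _ p => acyc_of_injective_sheaf (Jf.obj (D.obj i)) Yf p)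
  have hz : IsZero ((EtCoh.Rpush g (q + 1)).obj (Sinf Jf jf D).X₂) :=
    isZero_Rpush_succ_of_covAcyclic g _ hacyc q
  -- hence the connecting map is an epimorphism
  let δc := Δ.δ (Sinf Jf jf D) hSinf q (q + 1) rfl
  have hepi : Epi δc :=
    (Δ.exact₁ (Sinf Jf jf D) hSinf q (q + 1) rfl).epi_f (hz.eq_of_tgt _ _)
  have hls : Presheaf.IsLocallySurjective Y.smallEtaleTopology δc.hom :=
    (Sheaf.isLocallySurjective_iff_epi' (J := Y.smallEtaleTopology)
      (A := AddCommGrpCat.{u + 1}) δc).2 hepi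
  have hT := hls.imageSieve_mem s
  obtain ⟨V₁, f₁, y₁, ⟨s₁, hs₁⟩, hy₁⟩ := (mem_smallEtaleTopology_iff V _).1 hT y
  -- apply the induction hypothesis to the quotient diagram
  obtain ⟨V₂, f₂, y₂, hy₂, i, t, ht⟩ := ih (Qd Jf jf D) V₁ s₁ y₁
  let δi := Δ.δ (Sst Jf jf D i) (Sst_shortExact Jf jf D i) q (q + 1) rfl
  refine ⟨V₂, f₂ ≫ f₁, y₂, ?_, i, δi.hom.app (op V₂) t, ?_⟩
  · change (f₂.left ≫ f₁.left).base y₂ = y
    rw [Scheme.Hom.comp_apply, hy₂, hy₁]
  · have hnat := Δ.δ_natural (Sst_shortExact Jf jf D i) hSinf (Sto Jf jf D i) q (q + 1) rfl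
    have h1 := congrArg (fun ψ : (EtCoh.Rpush g q).obj (Sst Jf jf D i).X₃ ⟶
      (EtCoh.Rpush g (q + 1)).obj (Sinf Jf jf D).X₁ => ψ.hom.app (op V₂) t) hnat
    have h1' : ((EtCoh.Rpush g (q + 1)).map (colimit.ι D i)).hom.app (op V₂)
        (δi.hom.app (op V₂) t) =
        δc.hom.app (op V₂)
          (((EtCoh.Rpush g q).map (colimit.ι (Qd Jf jf D) i)).hom.app (op V₂) t) := h1.symm
    rw [h1', ht]
    have h2 := NatTrans.naturality_apply δc.hom f₂.op s₁
    rw [h2]
    have hs₁' : δc.hom.app (op V₁) s₁ =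
        ((EtCoh.Rpush g (q + 1)).obj (colimit D)).obj.map f₁.op s := hs₁
    rw [hs₁', op_comp, Functor.map_comp]
    rfl

theorem LS_all (q : ℕ) : LS g I q := by
  obtain ⟨Jf, jf, hJ⟩ :=
    Groth.Agent.Lib.Helper18.FunctorialInjective.exists_functorial_injective_embedding.{u + 1}
      (EtCoh.Ab X)
  have hinj : ∀ G, Injective (Jf.obj G) := fun G => (hJ G).1
  have hmono : ∀ G, Mono (jf.app G) := fun G => (hJ G).2
  induction q with
  | zero => exact LS_zero g I
  | succ q ih => exact LS_succ g I Jf jf q ih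

end LS

end Groth.Agent.Lib.Helper22.ColimCohU.Etale
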