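import Groth.Agent.Lib.Helper22.ColimCohU.RpushLS

set_option autoImplicit false
set_option linter.unusedSectionVars false

universe u

open CategoryTheory CategoryTheory.Limits Opposite AlgebraicGeometry Abelian

namespace Groth.Agent.Lib.Helper22.ColimCohU.Torsion

open Groth.Agent.Lib.Helper22.ColimCohU Groth.Agent.Lib.Helper22.ColimCohU.Etale
open Groth.Agent.Lib.Helper22.CechU.Etale

instance : PreservesColimitsOfShape ℕ (forget AddCommGrpCat.{u + 1}) := by
  have : PreservesFilteredColimitsOfSize.{0, 0} (forget AddCommGrpCat.{u + 1}) :=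
    preservesFilteredColimitsOfSize_shrink.{0, u + 1, 0, u + 1} _
  infer_instance

instance (X : Scheme.{u}) : HasExactColimitsOfShape ℕ (EtCoh.Ab X) := by
  have h := AB5OfSize_shrink.{0, 0, u + 1, u + 1} (EtCoh.Ab X)
  exact h.ofShape ℕ

variable {X Y : Scheme.{u}}

lemma nsmul_hom_app (m : ℕ) {P Q : EtCoh.Ab X} (φ : P ⟶ Q) (U : X.Etaleᵒᵖ) (s : P.obj.obj U) :
    (m • φ).hom.app U s = m • φ.hom.app U s := by
  induction m with
  | zero =>
    rw [zero_smul, zero_smul]
    rfl
  | succ m ih =>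
    rw [succ_nsmul, succ_nsmul, ← ih]
    rfl

/-- A sequence of moduli, each dividing the next. -/
structure Moduli where
  mm : ℕ → ℕ
  pos : ∀ k, 0 < mm k
  dvd : ∀ k l, k ≤ l → mm k ∣ mm l

variable (M : Moduli) (F : EtCoh.Ab X)

/-- Multiplication by `mm k`. -/
noncomputable abbrev μ (k : ℕ) : F ⟶ F := M.mm k • 𝟙 F

lemma μ_app (k : ℕ) (U : X.Etaleᵒᵖ) (s : F.obj.obj U) : (μ M F k).hom.app U s = M.mm k • s := by
  rw [nsmul_hom_app]
  rfl

lemma ι_μ_of_le {k l : ℕ} (h : k ≤ l) : kernel.ι (μ M F k) ≫ μ M F l = 0 := by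
  obtain ⟨c, hc⟩ := M.dvd k l h
  have : μ M F l = μ M F k ≫ (c • 𝟙 F) := by
    change M.mm l • 𝟙 F = (M.mm k • 𝟙 F) ≫ (c • 𝟙 F)
    rw [Preadditive.nsmul_comp, Preadditive.comp_nsmul, Category.id_comp, ← mul_nsmul, hc,
      mul_comm]
  rw [this, ← Category.assoc, kernel.condition, zero_comp]

/-- The diagram of torsion subsheaves `F[mm k]`. -/
noncomputable def D : ℕ ⥤ EtCoh.Ab X where
  obj k := kernel (μ M F k)
  map {k l} h := kernel.lift (μ M F l) (kernel.ι (μ M F k)) (ι_μ_of_le M F (leOfHom h))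
  map_id k := by
    rw [← cancel_mono (kernel.ι (μ M F k)), kernel.lift_ι, Category.id_comp]
  map_comp {k l m} f g := by
    rw [← cancel_mono (kernel.ι (μ M F m)), kernel.lift_ι, Category.assoc, kernel.lift_ι,
      kernel.lift_ι]

/-- The cocone of inclusions. -/
noncomputable def cD : Cocone (D M F) where
  pt := F
  ι := { app := fun k => kernel.ι (μ M F k)
         naturality := fun k l f => by
          change kernel.lift (μ M F l) (kernel.ι (μ M F k)) _ ≫ kernel.ι (μ M F l) =
            kernel.ι (μ M F k) ≫ 𝟙 F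
          rw [kernel.lift_ι, Category.comp_id] }

/-- `mm k` kills `F[mm k]`. -/
lemma nsmul_id_D (k : ℕ) : M.mm k • 𝟙 ((D M F).obj k) = 0 := by
  change M.mm k • 𝟙 (kernel (μ M F k)) = 0
  rw [← cancel_mono (kernel.ι (μ M F k)), Preadditive.nsmul_comp, Category.id_comp, zero_comp]
  have h := kernel.condition (μ M F k)
  change kernel.ι (μ M F k) ≫ (M.mm k • 𝟙 F) = 0 at h
  rw [Preadditive.comp_nsmul, Category.comp_id] at h
  exact h

open Groth.Agent.Lib.Helper22.CechU.Site in
lemma exists_lift_kernel (k : ℕ) (V : X.Etale) (t : F.obj.obj (op V)) (ht : M.mm k • t = 0) :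
    ∃ t' : (kernel (μ M F k)).obj.obj (op V), (kernel.ι (μ M F k)).hom.app (op V) t' = t := by
  let S : ShortComplex (EtCoh.Ab X) := ShortComplex.mk (kernel.ι (μ M F k)) (μ M F k)
    (kernel.condition _)
  have hS : S.Exact := ShortComplex.exact_of_f_is_kernel _ (kernelIsKernel (μ M F k))
  have hm : Mono S.f := inferInstanceAs (Mono (kernel.ι (μ M F k)))
  exact sections_exact_of_left_exact hS hm V t ((μ_app M F k (op V) t).trans ht)

/-- `F` is locally killed by the moduli. -/
def LocallyKilled : Prop :=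
  ∀ (U : X.Etale) (s : F.obj.obj (op U)) (x : ↥(U.left)), ∃ (V : X.Etale) (g : V ⟶ U)
    (v : ↥(V.left)) (k : ℕ), g.left.base v = x ∧ M.mm k • F.obj.map g.op s = 0

/-- The sieve of maps along which `s` is killed by some modulus. -/
def killSieve {U : X.Etale} (s : F.obj.obj (op U)) : Sieve U where
  arrows V f := ∃ k : ℕ, M.mm k • F.obj.map f.op s = 0
  downward_closed := by
    rintro V W f ⟨k, h⟩ g
    refine ⟨k, ?_⟩
    rw [op_comp, Functor.map_comp, ConcreteCategory.comp_apply, ← map_nsmul, h, map_zero]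

lemma killSieve_mem (hF : LocallyKilled M F) {U : X.Etale} (s : F.obj.obj (op U)) :
    killSieve M F s ∈ X.smallEtaleTopology U := by
  rw [mem_smallEtaleTopology_iff]
  intro x
  obtain ⟨V, g, v, k, hv, h⟩ := hF U s x
  exact ⟨V, g, v, ⟨k, h⟩, hv⟩

theorem isColimit_cD (hF : LocallyKilled M F) : Nonempty (IsColimit (cD M F)) := by
  refine isColimit_of_local (J := X.smallEtaleTopology) (fun Q => isSheaf_forget Q) (cD M F) ?_ ?_
  · intro U s
    refine ⟨killSieve M F s, killSieve_mem M F hF s, ?_⟩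
    rintro V f ⟨k, h⟩
    obtain ⟨t', ht'⟩ := exists_lift_kernel M F k V _ h
    exact ⟨k, t', ht'⟩
  · intro U i t ht
    have hinj : Function.Injective ((kernel.ι (μ M F i)).hom.app (op U)) :=
      Groth.Agent.Lib.Helper22.CechU.Site.injective_app_of_mono _ U
    have ht0 : t = 0 := hinj (ht.trans (map_zero _).symm)
    refine ⟨⊤, X.smallEtaleTopology.top_mem U, fun V f _ => ⟨i, 𝟙 i, ?_⟩⟩
    rw [ht0, map_zero, map_zero]

lemma map_apply_aux {A B : EtCoh.Ab Y} (φ ψ : A ⟶ B) (h : φ = ψ) (V : Y.Etale)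
    (t : A.obj.obj (op V)) : φ.hom.app (op V) t = ψ.hom.app (op V) t := by
  rw [h]

/-- **Higher direct images along a qcqs morphism of a sheaf locally killed by the moduli are
locally killed by the moduli.** -/
theorem locallyKilled_Rpush (g : X ⟶ Y) [QuasiCompact g] [QuasiSeparated g]
    (hF : LocallyKilled M F) (q : ℕ) : LocallyKilled M ((EtCoh.Rpush g q).obj F) := by
  intro V s y
  obtain ⟨hc⟩ := isColimit_cD M F hF
  let e : colimit (D M F) ≅ F := (colimit.isColimit (D M F)).coconePointUniqueUpToIso hc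
  have he : ∀ k, colimit.ι (D M F) k ≫ e.hom = kernel.ι (μ M F k) := fun k =>
    (colimit.isColimit (D M F)).comp_coconePointUniqueUpToIso_hom hc k
  let R := EtCoh.Rpush g q
  let s' : (R.obj (colimit (D M F))).obj.obj (op V) := (R.map e.inv).hom.app (op V) s
  have hs' : (R.map e.hom).hom.app (op V) s' = s := by
    have h : R.map e.inv ≫ R.map e.hom = 𝟙 _ := by
      rw [← R.map_comp, e.inv_hom_id, R.map_id]
    exact congrArg (fun ψ : R.obj F ⟶ R.obj F => ψ.hom.app (op V) s) h
  obtain ⟨V', f, y', hy', k, t, ht⟩ := LS_all g ℕ q (D M F) V s' y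
  refine ⟨V', f, y', k, hy', ?_⟩
  -- `mm k` kills `t`
  have h0 : M.mm k • t = 0 := by
    have h1 : R.map (M.mm k • 𝟙 ((D M F).obj k)) = M.mm k • 𝟙 (R.obj ((D M F).obj k)) := by
      rw [Functor.map_nsmul, R.map_id]
    rw [nsmul_id_D, R.map_zero] at h1
    have h2 := map_apply_aux _ _ h1 V' t
    rw [nsmul_hom_app] at h2
    exact h2.symm
  have h3 : (R.obj F).obj.map f.op s =
      (R.map e.hom).hom.app (op V') ((R.map (colimit.ι (D M F) k)).hom.app (op V') t) := by
    rw [ht, ← hs']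
    exact (NatTrans.naturality_apply (R.map e.hom).hom f.op s').symm
  rw [h3, ← map_nsmul, ← map_nsmul, h0, map_zero, map_zero]

end Groth.Agent.Lib.Helper22.ColimCohU.Torsion
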